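/-!
Coordinates for the centraliser of an outer involution with 64 fixed transpositions
 (generated data).
-/

set_option maxRecDepth 20000

namespace CfsgLib.Spor.Fi22.OuterSA

/-- symplectic vectors of the 63 points -/
def svec : List (Nat × Nat) := [
  (136, 12), (167, 21), (256, 1), (269, 7), (277, 25), (429, 2), (432, 39), (463, 33),
  (491, 59), (495, 30), (552, 27), (577, 50), (623, 17), (669, 22), (701, 51), (932, 38),
  (1039, 45), (1044, 61), (1055, 16), (1169, 60), (1204, 37), (1261, 44), (1272, 49), (1282, 5),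
  (1303, 29), (1359, 10), (1394, 6), (1458, 13), (1703, 18), (1727, 11), (1778, 34), (1846, 46),
  (1900, 47), (1955, 23), (2079, 53), (2094, 58), (2182, 52), (2248, 15), (2261, 28), (2488, 57),
  (2562, 4), (2635, 3), (2689, 24), (2727, 55), (2733, 32), (2744, 42), (2793, 43), (2818, 26),
  (2854, 40), (2898, 62), (2925, 20), (2932, 54), (2970, 14), (3014, 9), (3056, 56), (3078, 8),
  (3209, 48), (3225, 63), (3226, 31), (3282, 35), (3325, 41), (3433, 36), (3439, 19)]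

/-- the transvections of the 64 points, by columns -/
def trans : List (Nat × List Nat) := [
  (2730, [1, 2, 4, 8, 16, 32]), (136, [13, 2, 4, 8, 16, 44]), (167, [1, 23, 4, 29, 16, 53]),
  (256, [1, 2, 4, 9, 16, 32]), (269, [1, 2, 4, 15, 23, 39]), (277, [24, 27, 4, 17, 16, 32]),
  (429, [1, 2, 4, 8, 18, 32]), (432, [1, 2, 35, 47, 55, 7]), (463, [1, 2, 37, 41, 16, 32]),
  (491, [58, 57, 63, 51, 43, 32]), (495, [31, 28, 4, 8, 14, 62]), (552, [26, 25, 4, 19, 11, 32]),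
  (577, [1, 48, 54, 8, 34, 32]), (623, [1, 19, 4, 25, 16, 32]), (669, [1, 20, 4, 8, 6, 54]),
  (701, [1, 49, 55, 59, 35, 32]), (932, [1, 2, 34, 8, 54, 6]), (1039, [44, 2, 41, 37, 16, 13]),
  (1044, [60, 63, 57, 53, 16, 29]), (1055, [1, 18, 4, 8, 16, 32]), (1169, [61, 62, 56, 8, 16, 28]),
  (1204, [1, 2, 33, 45, 16, 5]), (1261, [45, 2, 40, 8, 16, 12]), (1272, [1, 51, 53, 57, 16, 32]),
  (1282, [1, 2, 4, 13, 16, 37]), (1303, [28, 31, 4, 21, 16, 61]), (1359, [11, 2, 4, 8, 26, 32]),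
  (1394, [1, 2, 4, 8, 22, 38]), (1458, [12, 2, 4, 5, 16, 45]), (1703, [1, 16, 4, 8, 2, 32]),
  (1727, [10, 2, 4, 3, 27, 32]), (1778, [1, 2, 38, 8, 50, 32]), (1846, [47, 2, 42, 8, 62, 14]),
  (1900, [46, 2, 43, 39, 63, 15]), (1955, [1, 21, 4, 31, 7, 55]), (2079, [1, 55, 49, 61, 16, 21]),
  (2094, [59, 56, 62, 8, 42, 32]), (2182, [1, 54, 48, 8, 16, 20]), (2248, [14, 2, 4, 7, 31, 47]),
  (2261, [29, 30, 4, 8, 16, 60]), (2488, [56, 59, 61, 49, 16, 32]), (2562, [1, 2, 4, 8, 16, 36]),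
  (2635, [1, 2, 4, 11, 19, 32]), (2689, [25, 26, 4, 8, 16, 32]), (2727, [1, 53, 51, 63, 39, 23]),
  (2733, [1, 2, 36, 8, 16, 32]), (2744, [43, 2, 46, 8, 58, 32]), (2793, [42, 2, 47, 35, 59, 32]),
  (2818, [27, 24, 4, 8, 10, 32]), (2854, [41, 2, 44, 8, 16, 32]), (2898, [63, 60, 58, 8, 46, 30]),
  (2925, [1, 22, 4, 8, 16, 52]), (2932, [1, 52, 50, 8, 38, 22]), (2970, [15, 2, 4, 8, 30, 46]),
  (3014, [8, 2, 4, 1, 16, 32]), (3056, [57, 58, 60, 8, 16, 32]), (3078, [9, 2, 4, 8, 16, 32]),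
  (3209, [1, 50, 52, 8, 16, 32]), (3225, [62, 61, 59, 55, 47, 31]), (3226, [30, 29, 4, 23, 15, 63]),
  (3282, [1, 2, 39, 43, 51, 32]), (3325, [40, 2, 45, 33, 16, 32]), (3433, [1, 2, 32, 8, 16, 4]),
  (3439, [1, 17, 4, 27, 3, 32])]

/-- a point not commuting -/
def far : Nat := 9

/-- separating points -/
def sep : List Nat := [136, 167, 256, 269, 432, 429]

end CfsgLib.Spor.Fi22.OuterSA
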