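import Cfsg.Agent.Lib.Spor.Fi22.OuterFix.Iso
import Cfsg.Agent.Lib.Spor.Fi22.OuterClass.Data
import Cfsg.Agent.Lib.Spor.Fi22.OuterSA.Data
import Cfsg.Agent.Lib.KnownB.Sp62.Main

/-!
The outer involution times a fixed transposition: its fixed group is `2 × Sp₆(2)`.
-/

set_option autoImplicit false
set_option maxRecDepth 100000

namespace CfsgLib.Spor.Fi22.OuterSA

open CfsgLib.PresCert Cfsg.Spor CfsgLib.Spor.Fi22.PairCent CfsgLib.Spor.Fi22.OuterFix
open CfsgLib.Spor.FischerTypes (cls22)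
open CfsgLib.Spor.Fi22.OuterClass (stdA)
open CfsgLib.KnownB (Sp62.Sp2 Sp62.M6)

local instance : Finite Cfsg.Spor.Fi22 := Fi22.finite

/-- the point of the transposition -/
noncomputable def pa : Fin Perm.data.n := ⟨stdA, by decide +kernel⟩

theorem pa_val : (pa : ℕ) = stdA := rfl

theorem facts_ok : Nat.beq (lab stdA) 0 = true ∧ Nat.beq stdA (repN 0) = true := by decide +kernel

theorem lab_pa : lab pa = 0 := Nat.eq_of_beq_eq_true facts_ok.1

theorem okP_pa : okP stdA = true := okP_fixed (by rw [show lab stdA = 0 from lab_pa]; norm_num)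

/-- a fixed point of the modified involution -/
noncomputable def fixS (i : ℕ) : Bool := Nat.beq (PairCent.tauTab.half (step stdA i)) i

theorem fixed_ok : fixS stdA = true ∧
    (allBelow 3510 fun q => !fixS q || Nat.beq (step stdA q) q) = true ∧
    (allBelow 3510 fun p => !fixS p || Nat.beq p stdA ||
      (classes.getD 0 []).any fun q => fixS q && !Nat.beq (step q p) p) = true := by
  decide +kernel

theorem fixed_iff_sa (g : Cfsg.Spor.Fi22) : (PairCent.tau * MulAut.conj (tpN stdA)) g = g ↔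
    g ∈ iGrp ⊓ Subgroup.centralizer {tpN stdA} := by
  obtain ⟨T, hT⟩ : ∃ T, T = tpN stdA := ⟨_, rfl⟩
  rw [← hT]
  have hTI : T ∈ iGrp := hT ▸ tpN_iGrp (by rw [show lab stdA = 0 from lab_pa]; norm_num)
  have hTp : T = cls22.tp pa := hT.trans (tpN_eq pa)
  rw [Subgroup.mem_inf, Subgroup.mem_centralizer_singleton_iff, mem_iGrp, MulAut.mul_apply, MulAut.conj_apply]
  constructor
  · intro h
    rw [map_mul, map_mul, map_inv, mem_iGrp.1 hTI] at h
    -- the permutation of the modified involution commutes with g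
    obtain ⟨s, hs⟩ : ∃ s : Equiv.Perm (Fin Perm.data.n), s = sigmaP * π T := ⟨_, rfl⟩
    have hsv : ∀ i : Fin Perm.data.n, ((s i : Fin Perm.data.n) : ℕ) = PairCent.tauTab.half (step stdA i) := fun i => by
      rw [hs, Equiv.Perm.mul_apply, sigmaP_val, hT, step_img okP_pa]
    have hTT : π T * sigmaP = sigmaP * π T := by
      refine Equiv.ext fun i => ?_
      have e := π_tau T (sigmaP i)
      rw [mem_iGrp.1 hTI, ← Equiv.Perm.mul_apply sigmaP sigmaP, sigmaP_sq, Equiv.Perm.one_apply] at e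
      rw [Equiv.Perm.mul_apply, Equiv.Perm.mul_apply]
      exact e
    have hcomm : ∀ i, π g (s i) = s (π g i) := by
      intro i
      have hg' : PairCent.tau g = T⁻¹ * g * T := by
        calc PairCent.tau g = T⁻¹ * (T * PairCent.tau g * T⁻¹) * T := by group
          _ = T⁻¹ * g * T := by rw [h]
      have hTinv : T⁻¹ = T := inv_eq_of_mul_eq_one_right (by rw [hTp]; exact setting.weak.sq _ (tp_mem pa))
      have e := π_tau g (π T i)
      rw [hg', map_mul, map_mul, hTinv, Equiv.Perm.mul_apply, Equiv.Perm.mul_apply, ← Equiv.Perm.mul_apply (π T) (π T),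
        ← map_mul, hTp, setting.weak.sq _ (tp_mem pa), map_one, Equiv.Perm.one_apply, ← hTp] at e
      have e2 := congrArg sigmaP e
      rw [← Equiv.Perm.mul_apply sigmaP sigmaP, sigmaP_sq, Equiv.Perm.one_apply] at e2
      rw [hs, Equiv.Perm.mul_apply, Equiv.Perm.mul_apply, ← e2]
    have hfix : ∀ q : Fin Perm.data.n, fixS q = true → fixS (π g q : Fin Perm.data.n) = true := by
      intro q hq
      simp only [fixS, Nat.beq_eq, ← hsv] at hq ⊢
      rw [← hcomm, Fin.ext hq]
    have hga : π g pa = pa := by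
      refine Fin.ext ?_
      have h2 := allBelow_spec fixed_ok.2.2 _ (π g pa).2
      rw [hfix pa fixed_ok.1, Bool.not_true, Bool.false_or, Bool.or_eq_true, List.any_eq_true] at h2
      rcases h2 with h2 | ⟨q, hq, h2⟩
      · exact Nat.eq_of_beq_eq_true h2
      · exfalso
        simp only [Bool.and_eq_true, Bool.not_eq_true', ← Bool.not_eq_true, Nat.beq_eq] at h2
        have hq0 := lab_of_mem hq
        obtain ⟨qi, rfl⟩ : ∃ qi : Fin Perm.data.n, q = qi :=
          ⟨⟨q, okP_lt (okP_fixed (by rw [hq0]; norm_num))⟩, rfl⟩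
        obtain ⟨r, hr⟩ : ∃ r, π g r = qi := ⟨(π g).symm qi, (π g).apply_symm_apply qi⟩
        have hrf : fixS r = true := by
          simp only [fixS, Nat.beq_eq, ← hsv]
          have e : π g (s r) = π g r := by
            rw [hcomm, hr]
            exact Fin.ext (by
              have := h2.1
              simp only [fixS, Nat.beq_eq, ← hsv] at this
              exact this)
          rw [(π g).injective e]
        have hcr : Commute (cls22.tp pa) (cls22.tp r) := by
          rw [← tpN_eq]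
          refine (step_commute okP_pa r).1 ?_
          have h3 := allBelow_spec fixed_ok.2.1 r r.2
          rw [hrf, Bool.not_true, Bool.false_or] at h3
          exact Nat.eq_of_beq_eq_true h3
        refine h2.2 ((step_commute (okP_fixed (by rw [hq0]; norm_num)) _).2 ?_)
        rw [tpN_eq, ← hr, show cls22.tp (π g pa) = g * cls22.tp pa * g⁻¹ from (cls22.conj_tp g pa).symm,
          show cls22.tp (π g r) = g * cls22.tp r * g⁻¹ from (cls22.conj_tp g r).symm]
        simpa [MulAut.conj_apply] using hcr.symm.map (MulAut.conj g)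
    have hc : Commute g T := hTp ▸ (cls22.commute_tp_iff g pa).2 hga
    refine ⟨?_, hc.eq⟩
    calc PairCent.tau g = T⁻¹ * (T * PairCent.tau g * T⁻¹) * T := by group
      _ = T⁻¹ * (g * T) := by rw [h]; group
      _ = g := by rw [hc.eq]; group
  · rintro ⟨h1, h2⟩
    rw [← h2, mul_inv_cancel_right, h1]

/-- the symplectic vector of a neighbour -/
noncomputable def sv (y : ℕ) : ℕ := codeOf svec y

/-- the columns of a transvection -/
noncomputable def mat6 (l : List ℕ) : Sp62.M6 :=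
  ⟨l.getD 0 0, l.getD 1 0, l.getD 2 0, l.getD 3 0, l.getD 4 0, l.getD 5 0⟩

/-- a neighbour of the transposition -/
noncomputable def isNb (y : ℕ) : Bool := Nat.beq (lab y) 0 && !Nat.beq y stdA && Nat.beq (step stdA y) y

theorem trans_ok : (trans.all fun e => Nat.beq (lab e.1) 0 && Nat.beq (step stdA e.1) e.1 &&
    Nat.beq (step e.1 stdA) stdA &&
    decide (CfsgLib.KnownB.Sp62.dec6 (mat6 e.2) * Matrix.J (Fin 3) (ZMod 2) *
      (CfsgLib.KnownB.Sp62.dec6 (mat6 e.2)).transpose = Matrix.J (Fin 3) (ZMod 2)) &&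
    (svec.all fun y => Nat.beq (CfsgLib.KnownB.Sp62.app6 (mat6 e.2) y.2 % 64) (sv (step e.1 y.1)))) = true := by
  decide +kernel

theorem nb_ok : (svec.all fun y => isNb y.1 && Nat.blt y.2 64 && Nat.beq (sv y.1) y.2 &&
      Nat.beq (pointOf svec y.2) y.1) = true ∧
    ((classes.getD 0 []).all fun y => !isNb y || inL (svec.map Prod.fst) y) = true ∧
    ((List.range 6).all fun i => inL (svec.map Prod.snd) (2 ^ i)) = true := by
  decide +kernel

theorem far_ok : (inL (classes.getD 0 []) far && !Nat.beq (step stdA far) far &&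
    sep.all (fun q => isNb q) &&
    ((classes.getD 0 []).all fun y => Nat.beq (step stdA y) y || (classes.getD 0 []).all fun y' =>
      Nat.beq (step stdA y') y' ||
        !((Nat.beq (step far y) y == Nat.beq (step far y') y') && (Nat.beq y far == Nat.beq y' far) &&
          sep.all fun q => Nat.beq (step q y) y == Nat.beq (step q y') y') || Nat.beq y y')) = true := by
  decide +kernel

theorem tail_ok : ((levels.drop 1).all fun L => L.2.all fun e => e.2.all fun k =>
    inL (trans.map Prod.fst) k) = true ∧ levels.map Prod.fst = stdA :: (levels.drop 1).map Prod.fst ∧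
    okChain [stdA] (levels.drop 1) = true ∧
    ((levels.drop 1).map fun L => L.2.length).prod = 2903040 := by
  decide +kernel

/-- the centraliser in the fixed group -/
noncomputable def sGrp : Subgroup Cfsg.Spor.Fi22 := iGrp ⊓ Subgroup.centralizer {tpN stdA}

theorem mem_sGrp {c : Cfsg.Spor.Fi22} : c ∈ sGrp ↔ c ∈ iGrp ∧ π c pa = pa := by
  rw [sGrp, Subgroup.mem_inf, Subgroup.mem_centralizer_singleton_iff, show tpN stdA = cls22.tp pa from tpN_eq pa]
  exact and_congr Iff.rfl (cls22.commute_tp_iff c pa)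

theorem sGrp_le : sGrp ≤ hGrp := fun c hc => by
  obtain ⟨hI, hf⟩ := mem_sGrp.1 hc
  refine mem_hGrp hI fun i hi => ?_
  rw [lab_same hI (x := i) (r := pa) (by rw [hi]; norm_num) (by rw [hi]; exact Nat.eq_of_beq_eq_true facts_ok.2), hf]
  exact lab_pa

/-- the group generated by the commuting transpositions -/
noncomputable def tGrp : Subgroup Cfsg.Spor.Fi22 := Subgroup.closure {y | ∃ e ∈ trans, tpN e.1 = y}

theorem trans_fix {e : ℕ × List ℕ} (he : e ∈ trans) : lab e.1 = 0 ∧ π (tpN e.1) pa = pa := by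
  have h := List.all_eq_true.1 trans_ok e he
  simp only [Bool.and_eq_true, Nat.beq_eq] at h
  have hl := h.1.1.1.1
  exact ⟨hl, Fin.ext (by rw [step_img (okP_fixed (by rw [hl]; norm_num))]; exact h.1.1.2)⟩

theorem tGrp_le : tGrp ≤ sGrp := (Subgroup.closure_le _).2 fun _ ⟨e, he, q⟩ => by
  obtain ⟨hl, hf⟩ := trans_fix he
  exact q ▸ mem_sGrp.2 ⟨tpN_iGrp (by rw [hl]; norm_num), hf⟩

theorem card_lower_in (K : Subgroup Cfsg.Spor.Fi22) : ∀ (ls : List (ℕ × List (ℕ × List ℕ))) (prev : List ℕ),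
    okChain prev ls = true → (∀ L ∈ ls, ∀ e ∈ L.2, wel e.2 ∈ K) →
      (ls.map fun L => L.2.length).prod ≤ Nat.card ↥(K ⊓ fixP prev)
  | [], prev, _, _ => by simp only [List.map_nil, List.prod_nil]; exact Nat.card_pos
  | L :: ls, prev, h, hK => by
    simp only [okChain, okLev, Bool.and_eq_true, List.all_eq_true, Nat.beq_eq] at h
    obtain ⟨⟨⟨⟨⟨hb, hnd⟩, hws⟩, -⟩, -⟩, hrest⟩ := h
    obtain ⟨p, hp⟩ : ∃ p : Fin Perm.data.n, L.1 = p := ⟨⟨L.1, okP_lt (okP_fixed (by rw [hb]; norm_num))⟩, rfl⟩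
    have hwk : ∀ e ∈ L.2, ∀ k ∈ e.2, okP k = true := fun e he k hk =>
      okP_fixed (by rw [(hws e he).1.1 k hk]; norm_num)
    have hmem : ∀ e ∈ L.2, wel e.2 ∈ K ⊓ fixP prev := fun e he =>
      Subgroup.mem_inf.2 ⟨hK L List.mem_cons_self e he, mem_fixP.2 fun q hq i hi => Fin.ext (by
        rw [run_img _ (hwk e he), hi, (hws e he).2 q hq])⟩
    have hle : K ⊓ fixP (L.1 :: prev) ≤ K ⊓ fixP prev :=
      inf_le_inf_left _ fun x hx => mem_fixP.2 fun q hq => mem_fixP.1 hx q (List.mem_cons_of_mem _ hq)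
    obtain ⟨f, hf⟩ : ∃ f : Fin L.2.length × ↥(K ⊓ fixP (L.1 :: prev)) → ↥(K ⊓ fixP prev),
        ∀ z, (f z : Cfsg.Spor.Fi22) = wel (L.2.get z.1).2 * z.2 :=
      ⟨fun z => ⟨_, mul_mem (hmem _ (L.2.get_mem z.1)) (hle z.2.2)⟩, fun _ => rfl⟩
    have himg : ∀ z, ((π (f z : Cfsg.Spor.Fi22) p : Fin Perm.data.n) : ℕ) = (L.2.get z.1).1 := fun z => by
      rw [hf, map_mul, Equiv.Perm.mul_apply, mem_fixP.1 (Subgroup.mem_inf.1 z.2.2).2 _ List.mem_cons_self p hp.symm,
        run_img _ (hwk _ (L.2.get_mem z.1)), ← hp, (hws _ (L.2.get_mem z.1)).1.2]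
    have hinj : Function.Injective f := by
      intro z z' hzz
      have e1 := himg z
      rw [hzz, himg z'] at e1
      have hk : z.1 = z'.1 := by
        refine Fin.ext (((nodupB_spec hnd).getElem_inj_iff (i := (z.1 : ℕ)) (hi := by simp) (j := (z'.1 : ℕ))
          (hj := by simp)).1 ?_)
        simp only [List.getElem_map]
        exact e1.symm
      refine Prod.ext hk (Subtype.ext ?_)
      have e2 := congrArg Subtype.val hzz
      rw [hf, hf, hk] at e2
      exact mul_left_cancel e2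
    have hcard := Nat.card_le_card_of_injective f hinj
    rw [Nat.card_prod, Nat.card_fin] at hcard
    rw [List.map_cons, List.prod_cons]
    exact (Nat.mul_le_mul_left _
      (card_lower_in K ls _ hrest fun L' hL' => hK L' (List.mem_cons_of_mem _ hL'))).trans hcard

theorem card_tGrp : 2903040 ≤ Nat.card tGrp := by
  have h := card_lower_in tGrp (levels.drop 1) [stdA] tail_ok.2.2.1 fun L hL e he => list_prod_mem fun y hy => by
    obtain ⟨k, hk, rfl⟩ := List.mem_map.1 hy
    have h2 := List.all_eq_true.1 (List.all_eq_true.1 (List.all_eq_true.1 tail_ok.1 L hL) e he) k (List.mem_reverse.1 hk)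
    rw [inL_iff, List.mem_map] at h2
    obtain ⟨z, hz, hzk⟩ := h2
    exact Subgroup.subset_closure ⟨z, hz, by rw [hzk]⟩
  rw [tail_ok.2.2.2] at h
  exact h.trans (Nat.card_le_card_of_injective (Subgroup.inclusion inf_le_left) (Subgroup.inclusion_injective _))

theorem card_sGrp : Nat.card sGrp ≤ 2903040 := by
  obtain ⟨ε⟩ := hGrp_iso
  have hH : Nat.card hGrp = 348364800 := (Nat.card_congr ε.toEquiv).trans CfsgLib.KnownB.O8Mult.natCard_iso
  obtain ⟨L, ls, hl⟩ : ∃ L ls, levels = L :: ls := ⟨_, _, rfl⟩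
  have hlen : L.2.length = 120 := by
    have : (levels.map fun L => L.2.length).take 1 = [120] := by decide +kernel
    simpa [hl] using this
  have h := chain_levels_ok
  rw [hl] at h
  simp only [okChain, okLev, Bool.and_eq_true, List.all_eq_true, Nat.beq_eq] at h
  obtain ⟨⟨⟨⟨⟨hb, hnd⟩, hws⟩, -⟩, -⟩, -⟩ := h
  have hLa : L.1 = stdA := by
    have := tail_ok.2.1
    rw [hl] at this
    simpa using (List.cons.inj this).1
  have hwk : ∀ e ∈ L.2, ∀ k ∈ e.2, okP k = true := fun e he k hk =>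
    okP_fixed (by rw [(hws e he).1.1 k hk]; norm_num)
  obtain ⟨f, hf⟩ : ∃ f : Fin L.2.length × sGrp → hGrp, ∀ z, (f z : Cfsg.Spor.Fi22) = wel (L.2.get z.1).2 * z.2 :=
    ⟨fun z => ⟨_, mul_mem (wel_hGrp fun k hk => (hws _ (L.2.get_mem z.1)).1.1 k hk) (sGrp_le z.2.2)⟩, fun _ => rfl⟩
  have hinj : Function.Injective f := by
    intro z z' hzz
    have e2 := congrArg Subtype.val hzz
    rw [hf, hf] at e2
    have himg : ∀ z : Fin L.2.length × sGrp,
        ((π (wel (L.2.get z.1).2 * z.2) pa : Fin Perm.data.n) : ℕ) = (L.2.get z.1).1 := fun z => by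
      rw [map_mul, Equiv.Perm.mul_apply, (mem_sGrp.1 z.2.2).2, run_img _ (hwk _ (L.2.get_mem z.1)), pa_val, ← hLa,
        (hws _ (L.2.get_mem z.1)).1.2]
    have e1 := himg z
    rw [e2, himg z'] at e1
    have hk : z.1 = z'.1 := by
      refine Fin.ext (((nodupB_spec hnd).getElem_inj_iff (i := (z.1 : ℕ)) (hi := by simp) (j := (z'.1 : ℕ))
        (hj := by simp)).1 ?_)
      simp only [List.getElem_map]
      exact e1.symm
    rw [hk] at e2
    exact Prod.ext hk (Subtype.ext (mul_left_cancel e2))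
  have hc := Nat.card_le_card_of_injective f hinj
  rw [Nat.card_prod, Nat.card_fin, hlen, hH] at hc
  omega

theorem tGrp_eq : tGrp = sGrp := Subgroup.eq_of_le_of_card_ge tGrp_le (card_sGrp.trans card_tGrp)

local notation "ℤ₂" => Multiplicative (ZMod 2)

/-- acting alike on the neighbours, with the parity recorded -/
def Alike (z : Cfsg.Spor.Fi22 × ℤ₂ × Sp62.Sp2) : Prop :=
  z.1 ∈ sGrp ∧ (∀ h : z.1 ∈ iGrp, (lam ⟨z.1, h⟩ = 1 ↔ z.2.1 = 1)) ∧
    ∀ i : Fin Perm.data.n, isNb i = true → isNb (π z.1 i : Fin Perm.data.n) = true ∧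
      CfsgLib.KnownB.Sp62.dv (sv (π z.1 i : Fin Perm.data.n)) =
        Matrix.mulVec (z.2.2 : Matrix CfsgLib.KnownB.Sp62.I CfsgLib.KnownB.Sp62.I (ZMod 2))
          (CfsgLib.KnownB.Sp62.dv (sv i))

theorem two_cases : ∀ u v : ℤ₂, (u = 1 ↔ v = 1) → u = v := by decide

theorem lam_pm {c : Cfsg.Spor.Fi22} (hc : c ∈ sGrp) (h : c ∈ iGrp) : lam ⟨c, h⟩ = 1 ∨ lam ⟨c, h⟩ = Equiv.swap 1 2 :=
  hGrp_lam ⟨c, h⟩ (sGrp_le hc)

theorem Alike.mul {a b : Cfsg.Spor.Fi22 × ℤ₂ × Sp62.Sp2} (ha : Alike a) (hb : Alike b) : Alike (a * b) := by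
  obtain ⟨a1, a2, a3⟩ := ha
  obtain ⟨b1, b2, b3⟩ := hb
  refine ⟨mul_mem a1 b1, fun h => ?_, fun i hi => ?_⟩
  · have hai := (mem_sGrp.1 a1).1
    have hbi := (mem_sGrp.1 b1).1
    have e : lam ⟨(a * b).1, h⟩ = lam ⟨a.1, hai⟩ * lam ⟨b.1, hbi⟩ := by rw [← map_mul]; rfl
    rw [e, Prod.snd_mul, Prod.fst_mul]
    have key : ∀ u v : ℤ₂, ∀ p q : Bool, ((p = true) ↔ u = 1) → ((q = true) ↔ v = 1) →
        (((p == q) = true) ↔ u * v = 1) := by decide
    have hsw : (Equiv.swap 1 2 : Equiv.Perm (Fin 3)) ≠ 1 := by decide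
    have k := key a.2.1 b.2.1 (decide (lam ⟨a.1, hai⟩ = 1)) (decide (lam ⟨b.1, hbi⟩ = 1))
      (by rw [decide_eq_true_eq]; exact a2 hai) (by rw [decide_eq_true_eq]; exact b2 hbi)
    rw [← k]
    rcases lam_pm a1 hai with p | p <;> rcases lam_pm b1 hbi with q | q <;> simp [p, q, hsw]
  · obtain ⟨x1, x2⟩ := b3 i hi
    obtain ⟨y1, y2⟩ := a3 _ x1
    rw [Prod.fst_mul, map_mul, Equiv.Perm.mul_apply, Prod.snd_mul, Prod.snd_mul, Submonoid.coe_mul]
    exact ⟨y1, by rw [y2, x2, Matrix.mulVec_mulVec]⟩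

theorem alike_one : Alike 1 := ⟨one_mem _, fun h => iff_of_true (by exact map_one lam) rfl, fun i hi => by
  rw [Prod.fst_one, map_one, Equiv.Perm.one_apply, Prod.snd_one, Prod.snd_one, OneMemClass.coe_one,
    Matrix.one_mulVec]
  exact ⟨hi, rfl⟩⟩

/-- the generating triples -/
def gTriples : Set (Cfsg.Spor.Fi22 × ℤ₂ × Sp62.Sp2) :=
  {z | ∃ e ∈ trans, z.1 = tpN e.1 ∧ z.2.1 = Multiplicative.ofAdd 1 ∧
    (z.2.2 : Matrix CfsgLib.KnownB.Sp62.I CfsgLib.KnownB.Sp62.I (ZMod 2)) = CfsgLib.KnownB.Sp62.dec6 (mat6 e.2)}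

/-- the graph -/
noncomputable def graph : Subgroup (Cfsg.Spor.Fi22 × ℤ₂ × Sp62.Sp2) := Subgroup.closure gTriples

theorem isNb_spec {i : Fin Perm.data.n} (h : isNb i = true) :
    lab i = 0 ∧ i ≠ pa ∧ Commute (cls22.tp pa) (cls22.tp i) := by
  simp only [isNb, Bool.and_eq_true, Nat.beq_eq, Bool.not_eq_true', ← Bool.not_eq_true] at h
  exact ⟨h.1.1, fun e => h.1.2 (e ▸ rfl), tpN_eq pa ▸ (step_commute okP_pa i).1 h.2⟩

theorem isNb_image {c : Cfsg.Spor.Fi22} (hc : c ∈ sGrp) {i : Fin Perm.data.n} (hi : isNb i = true) :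
    isNb (π c i : Fin Perm.data.n) = true := by
  obtain ⟨hl, hne, hcm⟩ := isNb_spec hi
  obtain ⟨hI, hf⟩ := mem_sGrp.1 hc
  simp only [isNb, Bool.and_eq_true, Nat.beq_eq, Bool.not_eq_true', ← Bool.not_eq_true]
  refine ⟨⟨?_, fun e => hne ((π c).injective ((Fin.ext e : π c i = pa).trans hf.symm))⟩, ?_⟩
  · rw [lab_same hI (x := i) (r := pa) (by rw [hl]; norm_num) (by rw [hl]; exact Nat.eq_of_beq_eq_true facts_ok.2), hf]
    exact lab_pa
  · refine (step_commute okP_pa _).2 ?_
    rw [show tpN stdA = cls22.tp pa from tpN_eq pa, show cls22.tp pa = MulAut.conj c (cls22.tp pa) by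
      rw [MulAut.conj_apply, cls22.conj_tp]; exact congrArg cls22.tp hf.symm,
      show cls22.tp (π c i) = MulAut.conj c (cls22.tp i) from (cls22.conj_tp c i).symm]
    exact hcm.map (MulAut.conj c)

theorem sv_mem {i : Fin Perm.data.n} (hi : isNb i = true) : ∃ y ∈ svec, y.1 = (i : ℕ) ∧ sv i = y.2 := by
  have h := List.all_eq_true.1 nb_ok.2.1 i (classes_mem (by norm_num) (isNb_spec hi).1)
  rw [hi, Bool.not_true, Bool.false_or, inL_iff, List.mem_map] at h
  obtain ⟨y, hy, e⟩ := h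
  have h2 := List.all_eq_true.1 nb_ok.1 y hy
  simp only [Bool.and_eq_true, Nat.beq_eq] at h2
  exact ⟨y, hy, e, by rw [← e]; exact h2.1.2⟩

theorem graph_alike {z : Cfsg.Spor.Fi22 × ℤ₂ × Sp62.Sp2} (hz : z ∈ graph) : Alike z := by
  induction hz using Subgroup.closure_induction with
  | mem y hy =>
    obtain ⟨e, he, h1, h2, h3⟩ := hy
    obtain ⟨hl, hf⟩ := trans_fix he
    have hk : lab e.1 < 3 := by rw [hl]; norm_num
    have hS : tpN e.1 ∈ sGrp := mem_sGrp.2 ⟨tpN_iGrp hk, hf⟩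
    have hS' : y.1 ∈ sGrp := h1 ▸ hS
    refine ⟨hS', fun h => iff_of_false ?_ (by rw [h2]; decide), fun i hi => ?_⟩
    · intro hlam
      have hchk : (trans.all fun e => !Nat.beq (lab (step e.1 (repN 1))) 1) = true := by decide +kernel
      have h4 := List.all_eq_true.1 hchk e he
      rw [Bool.not_eq_true', ← Bool.not_eq_true, Nat.beq_eq] at h4
      obtain ⟨r1, hr1, hl1⟩ := rep_mk 1 (by norm_num)
      have e1 := lam_spec ⟨y.1, h⟩ (j := 1) hl1
      rw [hlam] at e1
      simp only [h1, step_img (okP_fixed hk), hr1] at e1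
      exact h4 e1.symm
    · refine ⟨isNb_image hS' hi, ?_⟩
      obtain ⟨w, hw, ew, esv⟩ := sv_mem hi
      have h4 := List.all_eq_true.1 trans_ok e he
      simp only [Bool.and_eq_true, List.all_eq_true, Nat.beq_eq] at h4
      rw [h1, h3, step_img (okP_fixed hk), CfsgLib.KnownB.Sp62.dec6_mulVec, CfsgLib.KnownB.Sp62.dv_inj, esv, ← ew,
        ← h4.2 w hw, Nat.mod_mod]
  | one => exact alike_one
  | mul a b _ _ iha ihb => exact iha.mul ihb
  | inv a ha iha =>
    obtain ⟨n, hn, hpow⟩ := isOfFinOrder_iff_pow_eq_one.1 (isOfFinOrder_of_finite a)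
    have hinv : a⁻¹ = a ^ (n - 1) := inv_eq_of_mul_eq_one_right (by
      rw [← pow_succ', Nat.sub_add_cancel hn, hpow])
    rw [hinv]
    clear hinv hpow hn
    induction n - 1 with
    | zero => rw [pow_zero]; exact alike_one
    | succ m ih => rw [pow_succ]; exact ih.mul iha

theorem graph_left {e : ℤ₂} {m : Sp62.Sp2} (h : ((1, e, m) : Cfsg.Spor.Fi22 × ℤ₂ × Sp62.Sp2) ∈ graph) :
    e = 1 ∧ m = 1 := by
  obtain ⟨-, h2, h3⟩ := graph_alike h
  refine ⟨(h2 (one_mem _)).1 (map_one lam), ?_⟩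
  have key : ∀ k < 6, Matrix.mulVec (m : Matrix CfsgLib.KnownB.Sp62.I CfsgLib.KnownB.Sp62.I (ZMod 2))
      (CfsgLib.KnownB.Sp62.dv (2 ^ k)) = CfsgLib.KnownB.Sp62.dv (2 ^ k) := by
    intro k hk
    have h4 := List.all_eq_true.1 nb_ok.2.2 k (List.mem_range.2 hk)
    rw [inL_iff, List.mem_map] at h4
    obtain ⟨y, hy, e2⟩ := h4
    have h5 := List.all_eq_true.1 nb_ok.1 y hy
    simp only [Bool.and_eq_true, Nat.beq_eq] at h5
    have hl : lab y.1 = 0 := by
      have := h5.1.1.1
      simp only [isNb, Bool.and_eq_true, Nat.beq_eq] at this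
      exact this.1.1
    obtain ⟨i, hi⟩ : ∃ i : Fin Perm.data.n, y.1 = i := ⟨⟨y.1, okP_lt (okP_fixed (by rw [hl]; norm_num))⟩, rfl⟩
    have h6 := (h3 i (hi ▸ h5.1.1.1)).2
    simp only [map_one, Equiv.Perm.one_apply, ← hi, h5.1.2, e2] at h6
    exact h6.symm
  refine Subtype.ext ?_
  ext r c
  obtain ⟨n, hn, hc⟩ : ∃ n < 6, CfsgLib.KnownB.Sp62.idx c = n := ⟨_, CfsgLib.KnownB.Sp62.idx_lt c, rfl⟩
  have hdv : CfsgLib.KnownB.Sp62.dv (2 ^ n) = Pi.single c 1 := by
    have : ∀ c : CfsgLib.KnownB.Sp62.I,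
        CfsgLib.KnownB.Sp62.dv (2 ^ CfsgLib.KnownB.Sp62.idx c) = Pi.single c 1 := by decide +kernel
    rw [← hc]; exact this c
  have e' := congrFun (key n hn) r
  rw [hdv, Matrix.mulVec_single_one] at e'
  rw [OneMemClass.coe_one, Matrix.one_apply]
  exact e'.trans (by rw [Pi.single_apply])

theorem step_conj' {c : Cfsg.Spor.Fi22} {p : Fin Perm.data.n} (hp : lab p < 3) (hcp : π c p = p)
    (x : Fin Perm.data.n) : Nat.beq (step p (π c x : Fin Perm.data.n)) (π c x : Fin Perm.data.n) =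
      Nat.beq (step p x) x := step_conj hp hcp x

theorem graph_right {c : Cfsg.Spor.Fi22} (h : ((c, 1, 1) : Cfsg.Spor.Fi22 × ℤ₂ × Sp62.Sp2) ∈ graph) : c = 1 := by
  obtain ⟨hS, h2, h3⟩ := graph_alike h
  obtain ⟨hI, hf⟩ := mem_sGrp.1 hS
  have hnb : ∀ i : Fin Perm.data.n, isNb i = true → π c i = i := by
    intro i hi
    obtain ⟨h4, h5⟩ := h3 i hi
    simp only [OneMemClass.coe_one, Matrix.one_mulVec] at h5
    obtain ⟨w, hw, ew, esv⟩ := sv_mem hi
    obtain ⟨w', hw', ew', esv'⟩ := sv_mem h4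
    have hb := fun z hz => List.all_eq_true.1 nb_ok.1 z hz
    have a1 := hb w hw
    have a2 := hb w' hw'
    simp only [Bool.and_eq_true, Nat.beq_eq, Nat.blt_eq] at a1 a2
    rw [CfsgLib.KnownB.Sp62.dv_inj, esv, esv', Nat.mod_eq_of_lt a1.1.1.2, Nat.mod_eq_of_lt a2.1.1.2] at h5
    refine Fin.ext ?_
    rw [← ew', ← ew, ← a2.2, h5, a1.2]
  have hfar := far_ok
  simp only [Bool.and_eq_true, List.all_eq_true, inL_iff] at hfar
  obtain ⟨⟨⟨hmem, hfa⟩, hsep⟩, hsepall⟩ := hfar
  have hf0 : lab far = 0 := lab_of_mem hmem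
  obtain ⟨p, hp⟩ : ∃ p : Fin Perm.data.n, far = p := ⟨⟨far, okP_lt (okP_fixed (by rw [hf0]; norm_num))⟩, rfl⟩
  rw [hp] at hf0 hfa
  -- everything is fixed as soon as the far point is
  have done : ∀ d : Cfsg.Spor.Fi22, d ∈ iGrp → π d pa = pa → (∀ i : Fin Perm.data.n, isNb i = true → π d i = i) →
      π d p = p → d = 1 := by
    intro d hd hda hdn hdp
    refine eq_one_of_fixes_class hd fun i hi => ?_
    have hdi : lab (π d i : Fin Perm.data.n) = 0 := by
      rw [lab_same hd (x := i) (r := pa) (by rw [hi]; norm_num) (by rw [hi]; exact Nat.eq_of_beq_eq_true facts_ok.2),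
        hda]
      exact lab_pa
    by_cases hc : Nat.beq (step stdA i) i = true
    · by_cases hia : i = pa
      · rw [hia, hda]
      · refine hdn i ?_
        simp only [isNb, Bool.and_eq_true, Bool.not_eq_true', ← Bool.not_eq_true, Nat.beq_eq]
        exact ⟨⟨hi, fun e => hia (Fin.ext e)⟩, Nat.eq_of_beq_eq_true hc⟩
    · have hstep := step_conj' (c := d) (p := pa) (by rw [lab_pa]; norm_num) hda i
      rw [pa_val] at hstep
      have h6 := hsepall _ (classes_mem (by norm_num) hdi)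
      rw [Bool.or_eq_true, hstep] at h6
      have h7 := List.all_eq_true.1 (h6.resolve_left hc) _ (classes_mem (by norm_num) hi)
      simp only [Bool.or_eq_true, hc, Bool.false_eq_true, false_or] at h7
      refine Fin.ext (Nat.eq_of_beq_eq_true (h7.resolve_left ?_))
      rw [Bool.not_eq_true', ← Bool.not_eq_true, not_not, Bool.and_eq_true, Bool.and_eq_true, beq_iff_eq,
        beq_iff_eq, List.all_eq_true]
      refine ⟨⟨?_, ?_⟩, fun q hq => ?_⟩
      · rw [hp]
        exact step_conj' (by rw [hf0]; norm_num) hdp i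
      · rw [hp, Bool.eq_iff_iff, Nat.beq_eq, Nat.beq_eq, ← Fin.ext_iff, ← Fin.ext_iff]
        constructor
        · intro e'
          exact (π d).injective (e'.trans hdp.symm)
        · rintro rfl
          exact hdp
      · have hq0 := hsep q hq
        have hql : lab q = 0 := by
          simp only [isNb, Bool.and_eq_true, Nat.beq_eq] at hq0
          exact hq0.1.1
        obtain ⟨q', rfl⟩ : ∃ q' : Fin Perm.data.n, q = q' :=
          ⟨⟨q, okP_lt (okP_fixed (by rw [hql]; norm_num))⟩, rfl⟩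
        rw [beq_iff_eq]
        exact step_conj' (by rw [hql]; norm_num) (hdn q' hq0) i
  have hcp : lab (π c p : Fin Perm.data.n) = 0 := by
    rw [lab_same hI (x := p) (r := pa) (by rw [hf0]; norm_num) (by rw [hf0]; exact Nat.eq_of_beq_eq_true facts_ok.2), hf]
    exact lab_pa
  by_cases hcp1 : π c p = p
  · exact done c hI hf hnb hcp1
  -- otherwise the transposition times the element is trivial, contradicting the parity
  exfalso
  have hT : tpN stdA ∈ iGrp := tpN_iGrp (by rw [show lab stdA = 0 from lab_pa]; norm_num)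
  have hTfix : ∀ i : Fin Perm.data.n, isNb i = true → π (tpN stdA) i = i := fun i hi =>
    (cls22.commute_tp_iff _ i).1 (tpN_eq pa ▸ (isNb_spec hi).2.2)
  have hTa : π (tpN stdA) pa = pa := (cls22.commute_tp_iff _ pa).1 (by rw [show tpN stdA = cls22.tp pa from tpN_eq pa])
  have htwo : π c p = π (tpN stdA) p := by
    have hchk : ((classes.getD 0 []).all fun x => Nat.beq x far || Nat.beq x (step stdA far) ||
        Nat.beq (step stdA x) x ||
        !(svec.all fun y => Nat.beq (step y.1 x) x == Nat.beq (step y.1 far) far)) = true := by decide +kernel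
    have h4 := List.all_eq_true.1 hchk _ (classes_mem (by norm_num) hcp)
    simp only [Bool.or_eq_true, Nat.beq_eq, hp] at h4
    rcases h4 with ((h4 | h4) | h4) | h4
    · exact absurd (Fin.ext h4) hcp1
    · exact Fin.ext (h4.trans (step_img okP_pa p).symm)
    · exfalso
      have h8 := step_conj' (c := c) (p := pa) (by rw [lab_pa]; norm_num) hf p
      rw [pa_val, show Nat.beq (step stdA (π c p : Fin Perm.data.n)) (π c p : Fin Perm.data.n) = true by
        rw [Nat.beq_eq]; exact h4] at h8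
      rw [← h8] at hfa
      exact absurd hfa (by simp)
    · exfalso
      rw [Bool.not_eq_true', ← Bool.not_eq_true] at h4
      refine h4 (List.all_eq_true.2 fun y hy => ?_)
      have h5 := List.all_eq_true.1 nb_ok.1 y hy
      simp only [Bool.and_eq_true] at h5
      have hyl : lab y.1 = 0 := by
        have := h5.1.1.1
        simp only [isNb, Bool.and_eq_true, Nat.beq_eq] at this
        exact this.1.1
      obtain ⟨yi, hyi⟩ : ∃ yi : Fin Perm.data.n, y.1 = yi := ⟨⟨y.1, okP_lt (okP_fixed (by rw [hyl]; norm_num))⟩, rfl⟩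
      rw [beq_iff_eq, hyi]
      exact step_conj' (by rw [← hyi, hyl]; norm_num) (hnb yi (hyi ▸ h5.1.1.1)) p
  have hinv : tpN stdA * tpN stdA = 1 := by
    rw [show tpN stdA = cls22.tp pa from tpN_eq pa]; exact setting.weak.sq _ (tp_mem pa)
  have h1 := done (tpN stdA * c) (mul_mem hT hI) (by rw [map_mul, Equiv.Perm.mul_apply, hf, hTa])
    (fun i hi => by rw [map_mul, Equiv.Perm.mul_apply, hnb i hi, hTfix i hi]) (by
      rw [map_mul, Equiv.Perm.mul_apply, htwo, ← Equiv.Perm.mul_apply, ← map_mul, hinv, map_one,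
        Equiv.Perm.one_apply])
  have hcT : c = tpN stdA := by
    calc c = tpN stdA * (tpN stdA * c) := by rw [← mul_assoc, hinv, one_mul]
      _ = tpN stdA := by rw [h1, mul_one]
  have hl := (h2 hI).2 rfl
  obtain ⟨r, hr, hlr⟩ := rep_mk 1 (by norm_num)
  have e1 := lam_spec ⟨c, hI⟩ (j := 1) hlr
  rw [hl] at e1
  simp only [hcT, step_img okP_pa, hr] at e1
  have hbad : Nat.beq (lab (step stdA (repN 1))) 1 = false := by decide +kernel
  rw [← Bool.not_eq_true, Nat.beq_eq] at hbad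
  exact hbad e1.symm

theorem graph_surj {c : Cfsg.Spor.Fi22} (hc : c ∈ sGrp) : ∃ u, (c, u) ∈ graph := by
  rw [← tGrp_eq] at hc
  induction hc using Subgroup.closure_induction with
  | mem y hy =>
    obtain ⟨e, he, rfl⟩ := hy
    have h := List.all_eq_true.1 trans_ok e he
    simp only [Bool.and_eq_true, decide_eq_true_eq] at h
    exact ⟨(Multiplicative.ofAdd 1, ⟨CfsgLib.KnownB.Sp62.dec6 (mat6 e.2), h.1.2⟩),
      Subgroup.subset_closure ⟨e, he, rfl, rfl, rfl⟩⟩
  | one => exact ⟨1, one_mem _⟩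
  | mul a b _ _ iha ihb =>
    obtain ⟨m, hm⟩ := iha
    obtain ⟨m', hm'⟩ := ihb
    exact ⟨m * m', mul_mem hm hm'⟩
  | inv a _ iha =>
    obtain ⟨m, hm⟩ := iha
    exact ⟨m⁻¹, inv_mem hm⟩

/-- the fixed group of the second outer involution -/
theorem sGrp_iso : Nonempty (↥sGrp ≃* Multiplicative (ZMod 2) × Cfsg.PSp 3 (ZMod 2)) := by
  obtain ⟨p1, hp1⟩ : ∃ p1 : graph →* sGrp, ∀ z, ((p1 z : sGrp) : Cfsg.Spor.Fi22) =
      (z : Cfsg.Spor.Fi22 × ℤ₂ × Sp62.Sp2).1 :=
    ⟨((MonoidHom.fst _ _).comp graph.subtype).codRestrict sGrp fun z => (graph_alike z.2).1, fun _ => rfl⟩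
  have b1 : Function.Bijective p1 := by
    refine ⟨(injective_iff_map_eq_one _).2 fun z hz => ?_, fun c => ?_⟩
    · have e := congrArg Subtype.val hz
      rw [hp1] at e
      obtain ⟨⟨c, u, m⟩, hcm⟩ := z
      obtain rfl : c = 1 := e
      obtain ⟨rfl, rfl⟩ := graph_left hcm
      rfl
    · obtain ⟨m, hm⟩ := graph_surj c.2
      exact ⟨⟨(c, m), hm⟩, Subtype.ext (hp1 _)⟩
  obtain ⟨p2, hp2⟩ : ∃ p2 : graph →* ℤ₂ × Sp62.Sp2, ∀ z, p2 z = (z : Cfsg.Spor.Fi22 × ℤ₂ × Sp62.Sp2).2 :=
    ⟨(MonoidHom.snd _ _).comp graph.subtype, fun _ => rfl⟩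
  have i2 : Function.Injective p2 := (injective_iff_map_eq_one _).2 fun z hz => by
    rw [hp2] at hz
    obtain ⟨⟨c, u, m⟩, hcm⟩ := z
    obtain ⟨rfl, rfl⟩ : u = 1 ∧ m = 1 := Prod.ext_iff.1 hz
    obtain rfl := graph_right hcm
    rfl
  have hcard : Nat.card Sp62.Sp2 = 1451520 := by
    rw [Cfsg.Agent.S0245.result (F := ZMod 2) (ZMod.card 2) 3]
    norm_num [Finset.prod_range_succ]
  haveI : Finite Sp62.Sp2 := Nat.finite_of_card_ne_zero (by rw [hcard]; norm_num)
  have b2 : Function.Bijective p2 := (Nat.bijective_iff_injective_and_card p2).2 ⟨i2,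
    le_antisymm (Nat.card_le_card_of_injective p2 i2) (by
      rw [Nat.card_eq_of_bijective p1 b1, Nat.card_prod, Nat.card_congr Multiplicative.toAdd, Nat.card_zmod, hcard,
        ← tGrp_eq]
      exact card_tGrp)⟩
  exact ⟨((MulEquiv.ofBijective p1 b1).symm.trans (MulEquiv.ofBijective p2 b2)).trans
    ((MulEquiv.refl _).prodCongr ((QuotientGroup.quotientMulEquivOfEq
      CfsgLib.KnownB.Sp62.center_trivial).trans QuotientGroup.quotientBot).symm)⟩

end CfsgLib.Spor.Fi22.OuterSA
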